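import Mathlib

/-!
# S4979, layer (I), [I-d]: the COMPLEMENT lemma (helper322)

`Y` is an abelian normal subgroup of `H`, `N ≤ Y` central in `H`, and `κ` identifies `Y / N` with the functions
`B → ZMod m` of sum zero, compatibly with the action of `H`, which is 3-transitive on `B`. If the elements
`e_i - e_j` of `Y` are centralised by the pointwise stabiliser of `i` and `j`, then there is an `H`-equivariant
retraction `Y → Y` with kernel `N`, whose image is a complement (`Data.retract`); so every homomorphism on `N`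
extends to an `H`-invariant homomorphism on `Y` (`Data.inv_char`).
-/

set_option autoImplicit false

namespace Cfsg.Agent.H322.NX.Compl

variable {H B : Type*} [Group H] [MulAction H B] [DecidableEq B]

/-- the function `e_i - e_j` -/
def dif (m : ℕ) (i j : B) : B → ZMod m := Pi.single i 1 - Pi.single j 1

theorem dif_smul (m : ℕ) (h : H) (i j k : B) : dif m (h • i) (h • j) (h • k) = dif m i j k := by
  simp only [dif, Pi.sub_apply, Pi.single_apply, smul_left_cancel_iff]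

theorem dif_self (m : ℕ) (i : B) : dif m i i = 0 := sub_self _

theorem dif_add (m : ℕ) (i j k : B) : dif m i j + dif m j k = dif m i k := by
  simp only [dif]; abel

/-- The hypotheses of the COMPLEMENT lemma. -/
structure Data [Fintype B] (m : ℕ) (N Y : Subgroup H) [Y.Normal]
    (κ : Y →* Multiplicative (B → ZMod m)) : Prop where
  cen : N ≤ Subgroup.center H
  NY : N ≤ Y
  comm : ∀ a ∈ Y, ∀ b ∈ Y, a * b = b * a
  ker : ∀ y : Y, κ y = 1 ↔ (y : H) ∈ N
  equiv : ∀ (h : H) (y : Y) (hy : h * y * h⁻¹ ∈ Y) (i : B),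
    (κ ⟨h * y * h⁻¹, hy⟩).toAdd (h • i) = (κ y).toAdd i
  sum : ∀ y : Y, ∑ i, (κ y).toAdd i = 0
  ex : ∀ i j : B, i ≠ j → ∃ y : Y, κ y = Multiplicative.ofAdd (dif m i j)
  fix : ∀ (h : H) (i j : B), i ≠ j → h • i = i → h • j = j → ∀ y : Y,
    κ y = Multiplicative.ofAdd (dif m i j) → h * y * h⁻¹ = y
  three : ∀ i j k i' j' k' : B, i ≠ j → i ≠ k → j ≠ k → i' ≠ j' → i' ≠ k' → j' ≠ k' →
    ∃ h : H, h • i = i' ∧ h • j = j' ∧ h • k = k'
  pts : ∃ i j k : B, i ≠ j ∧ i ≠ k ∧ j ≠ k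

namespace Data

variable [Fintype B] {m : ℕ} {N Y : Subgroup H} [Y.Normal] {κ : Y →* Multiplicative (B → ZMod m)}

theorem third (D : Data m N Y κ) (i j : B) : ∃ k : B, i ≠ k ∧ j ≠ k := by
  obtain ⟨u, v, w, h1, h2, h3⟩ := D.pts
  by_contra hcon
  push Not at hcon
  by_cases hu : i = u
  · have h4 : j = v := hcon v (by rw [hu]; exact h1)
    have h5 : j = w := hcon w (by rw [hu]; exact h2)
    exact h3 (h4.symm.trans h5)
  · have h4 : j = u := hcon u hu
    by_cases hv : i = v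
    · have h5 : j = w := hcon w (by rw [hv]; exact h3)
      exact h2 (h4.symm.trans h5)
    · exact h1 (h4.symm.trans (hcon v hv))

theorem two (D : Data m N Y κ) {i j i' j' : B} (hij : i ≠ j) (hij' : i' ≠ j') :
    ∃ h : H, h • i = i' ∧ h • j = j' := by
  obtain ⟨k, h1, h2⟩ := D.third i j
  obtain ⟨k', h1', h2'⟩ := D.third i' j'
  obtain ⟨h, h3, h4, -⟩ := D.three i j k i' j' k' hij h1 h2 hij' h1' h2'
  exact ⟨h, h3, h4⟩

/-- a central element is fixed by conjugation -/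
theorem conj_cen (D : Data m N Y κ) {n : H} (hn : n ∈ N) (h : H) : h * n * h⁻¹ = n := by
  rw [Subgroup.mem_center_iff.1 (D.cen hn) h, mul_inv_cancel_right]

/-- the equivariant lifts of `e_i - e_j` -/
theorem lifts (D : Data m N Y κ) : ∃ u : B → B → H, ∀ i j : B, i ≠ j →
    (∃ hu : u i j ∈ Y, κ ⟨u i j, hu⟩ = Multiplicative.ofAdd (dif m i j)) ∧
    ∀ h : H, h * u i j * h⁻¹ = u (h • i) (h • j) := by
  classical
  obtain ⟨i0, j0, -, h0, -, -⟩ := D.pts
  obtain ⟨y, hy⟩ := D.ex i0 j0 h0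
  have key : ∀ i j : B, ∃ x : H, i ≠ j → ∀ h : H, h • i0 = i → h • j0 = j → h * y * h⁻¹ = x := by
    intro i j
    by_cases hij : i = j
    · exact ⟨1, fun h => absurd hij h⟩
    · obtain ⟨g, hg1, hg2⟩ := D.two h0 hij
      refine ⟨g * y * g⁻¹, fun _ h h1 h2 => ?_⟩
      have h3 := D.fix (g⁻¹ * h) i0 j0 h0 (by rw [mul_smul, h1, ← hg1, inv_smul_smul])
        (by rw [mul_smul, h2, ← hg2, inv_smul_smul]) y hy
      calc h * (y : H) * h⁻¹ = g * (g⁻¹ * h * y * (g⁻¹ * h)⁻¹) * g⁻¹ := by group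
        _ = _ := by rw [h3]
  choose u hu using key
  refine ⟨u, fun i j hij => ⟨?_, fun g => ?_⟩⟩
  · obtain ⟨g, hg1, hg2⟩ := D.two h0 hij
    have h1 := hu i j hij g hg1 hg2
    have h2 : g * (y : H) * g⁻¹ ∈ Y := Subgroup.Normal.conj_mem inferInstance _ y.2 g
    refine ⟨h1 ▸ h2, ?_⟩
    have h3 : (⟨u i j, h1 ▸ h2⟩ : Y) = ⟨g * (y : H) * g⁻¹, h2⟩ := Subtype.ext h1.symm
    rw [h3]
    apply Multiplicative.toAdd.injective
    funext k
    have h4 := D.equiv g y h2 (g⁻¹ • k)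
    rw [smul_inv_smul, hy] at h4
    rw [h4, toAdd_ofAdd, toAdd_ofAdd, ← hg1, ← hg2]
    conv_rhs => rw [← smul_inv_smul g k]
    exact (dif_smul m g i0 j0 _).symm
  · obtain ⟨h, h1, h2⟩ := D.two h0 hij
    have h3 := hu i j hij h h1 h2
    have h4 := hu (g • i) (g • j) (fun e => hij (MulAction.injective g e)) (g * h)
      (by rw [mul_smul, h1]) (by rw [mul_smul, h2])
    rw [← h3, ← h4]
    group

/-- the equivariant cocycle -/
theorem cocycle (D : Data m N Y κ) : ∃ y : B → B → H, (∀ i j : B,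
    (∃ hu : y i j ∈ Y, κ ⟨y i j, hu⟩ = Multiplicative.ofAdd (dif m i j)) ∧
    (∀ h : H, h * y i j * h⁻¹ = y (h • i) (h • j)) ∧ y i j ^ m = 1) ∧
    ∀ i j k : B, y i j * y j k = y i k := by
  classical
  obtain ⟨u, hu⟩ := D.lifts
  obtain ⟨i0, j0, k0, h1, h2, h3⟩ := D.pts
  have uY : ∀ i j : B, i ≠ j → u i j ∈ Y := fun i j h => (hu i j h).1.1
  have uc : ∀ i j k l : B, i ≠ j → k ≠ l → u i j * u k l = u k l * u i j := fun i j k l h h' =>
    D.comm _ (uY i j h) _ (uY k l h')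
  -- the constants
  set n1 := u i0 j0 * u j0 i0 with hn1
  set m0 := u i0 j0 * u j0 k0 * (u i0 k0)⁻¹ with hm0
  have hn1N : n1 ∈ N := by
    rw [← D.ker ⟨n1, mul_mem (uY _ _ h1) (uY _ _ h1.symm)⟩]
    have : (⟨n1, mul_mem (uY _ _ h1) (uY _ _ h1.symm)⟩ : Y) =
      ⟨u i0 j0, (hu i0 j0 h1).1.1⟩ * ⟨u j0 i0, (hu j0 i0 h1.symm).1.1⟩ := rfl
    rw [this, map_mul, (hu i0 j0 h1).1.2, (hu j0 i0 h1.symm).1.2, ← ofAdd_add, dif_add, dif_self]
    rfl
  have hm0N : m0 ∈ N := by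
    rw [← D.ker ⟨m0, mul_mem (mul_mem (uY _ _ h1) (uY _ _ h3)) (inv_mem (uY _ _ h2))⟩]
    have : (⟨m0, mul_mem (mul_mem (uY _ _ h1) (uY _ _ h3)) (inv_mem (uY _ _ h2))⟩ : Y) =
      ⟨u i0 j0, (hu i0 j0 h1).1.1⟩ * ⟨u j0 k0, (hu j0 k0 h3).1.1⟩ *
        (⟨u i0 k0, (hu i0 k0 h2).1.1⟩)⁻¹ := rfl
    rw [this, map_mul, map_mul, map_inv, (hu i0 j0 h1).1.2, (hu j0 k0 h3).1.2, (hu i0 k0 h2).1.2,
      ← ofAdd_add, dif_add, mul_inv_cancel]
  have cn1 : ∀ i j : B, i ≠ j → u i j * u j i = n1 := by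
    intro i j hij
    obtain ⟨h, e1, e2⟩ := D.two h1 hij
    have h4 := (hu i0 j0 h1).2 h
    have h5 := (hu j0 i0 h1.symm).2 h
    rw [e1, e2] at h4 h5
    rw [← h4, ← h5]
    calc h * u i0 j0 * h⁻¹ * (h * u j0 i0 * h⁻¹) = h * n1 * h⁻¹ := by rw [hn1]; group
      _ = n1 := D.conj_cen hn1N h
  have cm0 : ∀ i j k : B, i ≠ j → i ≠ k → j ≠ k → u i j * u j k = u i k * m0 := by
    intro i j k hij hik hjk
    obtain ⟨h, e1, e2, e3⟩ := D.three i0 j0 k0 i j k h1 h2 h3 hij hik hjk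
    have h4 := (hu i0 j0 h1).2 h
    have h5 := (hu j0 k0 h3).2 h
    have h6 := (hu i0 k0 h2).2 h
    rw [e1, e2] at h4
    rw [e2, e3] at h5
    rw [e1, e3] at h6
    have h7 := D.conj_cen hm0N h
    rw [← h4, ← h5, ← h6, ← h7, hm0]
    have h8 : u i0 j0 * u j0 k0 * (u i0 k0)⁻¹ = (u i0 k0)⁻¹ * (u i0 j0 * u j0 k0) :=
      D.comm _ (mul_mem (uY _ _ h1) (uY _ _ h3)) _ (inv_mem (uY _ _ h2))
    rw [h8]
    group
  have mc : ∀ g : H, m0 * g = g * m0 := fun g => (Subgroup.mem_center_iff.1 (D.cen hm0N) g).symm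
  have nc : ∀ g : H, n1 * g = g * n1 := fun g => (Subgroup.mem_center_iff.1 (D.cen hn1N) g).symm
  have hnm : n1 = m0 * m0 := by
    -- `u_kj u_ji = u_ki m0`
    have h4 := cm0 i0 j0 k0 h1 h2 h3
    have h5 := cm0 k0 j0 i0 h3.symm h2.symm h1.symm
    have h6 := cn1 i0 j0 h1
    have h7 := cn1 j0 k0 h3
    have h8 := cn1 i0 k0 h2
    -- (u_ij u_jk)(u_kj u_ji) = n1 n1
    have h9 : (u i0 j0 * u j0 k0) * (u k0 j0 * u j0 i0) = n1 * n1 := by
      calc (u i0 j0 * u j0 k0) * (u k0 j0 * u j0 i0) = u i0 j0 * (u j0 k0 * u k0 j0) * u j0 i0 := by group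
        _ = u i0 j0 * n1 * u j0 i0 := by rw [h7]
        _ = n1 * (u i0 j0 * u j0 i0) := by rw [← nc, mul_assoc]
        _ = n1 * n1 := by rw [h6]
    have h10 : (u i0 k0 * m0) * (u k0 i0 * m0) = n1 * (m0 * m0) := by
      calc (u i0 k0 * m0) * (u k0 i0 * m0) = u i0 k0 * (m0 * u k0 i0) * m0 := by group
        _ = u i0 k0 * u k0 i0 * (m0 * m0) := by rw [mc]; group
        _ = n1 * (m0 * m0) := by rw [h8]
    rw [h4, h5, h10] at h9
    exact (mul_left_cancel h9).symm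
  let y : B → B → H := fun i j => if i = j then 1 else u i j * m0⁻¹
  have y1 : ∀ i : B, y i i = 1 := fun i => if_pos rfl
  have y2 : ∀ i j : B, i ≠ j → y i j = u i j * m0⁻¹ := fun i j h => if_neg h
  have yY : ∀ i j : B, y i j ∈ Y := by
    intro i j
    by_cases hij : i = j
    · rw [hij, y1]; exact one_mem _
    · rw [y2 _ _ hij]; exact mul_mem (uY _ _ hij) (inv_mem (D.NY hm0N))
  have hm1 : κ ⟨m0, D.NY hm0N⟩ = 1 := (D.ker _).2 hm0N
  have yκ : ∀ i j : B, κ ⟨y i j, yY i j⟩ = Multiplicative.ofAdd (dif m i j) := by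
    intro i j
    by_cases hij : i = j
    · subst hij
      have : (⟨y i i, yY i i⟩ : Y) = 1 := Subtype.ext (y1 i)
      rw [this, map_one, dif_self]
      rfl
    · have : (⟨y i j, yY i j⟩ : Y) = ⟨u i j, (hu i j hij).1.1⟩ * (⟨m0, D.NY hm0N⟩)⁻¹ :=
        Subtype.ext (y2 i j hij)
      rw [this, map_mul, map_inv, hm1, inv_one, mul_one, (hu i j hij).1.2]
  have ye : ∀ (i j : B) (h : H), h * y i j * h⁻¹ = y (h • i) (h • j) := by
    intro i j h
    by_cases hij : i = j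
    · rw [hij, y1, y1]; group
    · rw [y2 _ _ hij, y2 _ _ (fun e => hij (MulAction.injective h e)), ← (hu i j hij).2 h]
      have h4 := mc h
      calc h * (u i j * m0⁻¹) * h⁻¹ = h * u i j * (h * m0)⁻¹ := by group
        _ = h * u i j * (m0 * h)⁻¹ := by rw [mc]
        _ = _ := by group
  have yr : ∀ i j : B, y i j * y j i = 1 := by
    intro i j
    by_cases hij : i = j
    · rw [hij, y1, mul_one]
    · rw [y2 _ _ hij, y2 _ _ (Ne.symm hij)]
      calc u i j * m0⁻¹ * (u j i * m0⁻¹) = u i j * m0⁻¹ * (m0 * u j i) * m0⁻¹ * m0⁻¹ := by rw [mc]; group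
        _ = (u i j * u j i) * (m0 * m0)⁻¹ := by group
        _ = 1 := by rw [cn1 i j hij, hnm, mul_inv_cancel]
  have yc : ∀ i j k : B, y i j * y j k = y i k := by
    intro i j k
    by_cases hij : i = j
    · rw [hij, y1, one_mul]
    by_cases hjk : j = k
    · rw [hjk, y1, mul_one]
    by_cases hik : i = k
    · rw [← hik, yr, y1]
    · rw [y2 _ _ hij, y2 _ _ hjk, y2 _ _ hik]
      have h4 := cm0 i j k hij hik hjk
      calc u i j * m0⁻¹ * (u j k * m0⁻¹) = u i j * m0⁻¹ * (m0 * u j k) * m0⁻¹ * m0⁻¹ := by rw [mc]; group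
        _ = (u i j * u j k) * (m0 * m0)⁻¹ := by group
        _ = _ := by rw [h4]; group
  -- the `m`-th powers
  have yp : ∀ i j : B, y i j ^ m = 1 := by
    have hp0 : y i0 j0 ^ m ∈ N := by
      rw [← D.ker ⟨y i0 j0 ^ m, pow_mem (yY _ _) m⟩]
      have : (⟨y i0 j0 ^ m, pow_mem (yY _ _) m⟩ : Y) = ⟨y i0 j0, yY _ _⟩ ^ m := rfl
      rw [this, map_pow, yκ, ← ofAdd_nsmul]
      have h4 : m • dif m i0 j0 = 0 := by
        funext k
        simp
      rw [h4]
      rfl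
    have cst : ∀ i j : B, i ≠ j → y i j ^ m = y i0 j0 ^ m := by
      intro i j hij
      obtain ⟨h, e1, e2⟩ := D.two h1 hij
      have h4 := ye i0 j0 h
      rw [e1, e2] at h4
      rw [← h4, conj_pow]
      exact D.conj_cen hp0 h
    have h5 : y i0 j0 ^ m * y j0 k0 ^ m = y i0 k0 ^ m := by
      rw [← yc i0 j0 k0]
      exact ((show Commute (y i0 j0) (y j0 k0) from D.comm _ (yY _ _) _ (yY _ _)).mul_pow m).symm
    rw [cst j0 k0 h3, cst i0 k0 h2] at h5
    have h6 : y i0 j0 ^ m = 1 := mul_eq_left.1 h5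
    intro i j
    by_cases hij : i = j
    · rw [hij, y1, one_pow]
    · rw [cst i j hij, h6]
  exact ⟨y, fun i j => ⟨⟨yY i j, yκ i j⟩, ye i j, yp i j⟩, yc⟩

/-- powers with exponents in `ZMod m` -/
theorem pow_val_add [NeZero m] {G : Type*} [Monoid G] {w : G} (hw : w ^ m = 1) (a b : ZMod m) :
    w ^ (a + b).val = w ^ a.val * w ^ b.val := by
  rw [ZMod.val_add, ← pow_eq_pow_mod _ hw, pow_add]

theorem pow_val_sum [NeZero m] {G ι : Type*} [CommMonoid G] {w : G} (hw : w ^ m = 1)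
    (s : Finset ι) (f : ι → ZMod m) : ∏ i ∈ s, w ^ (f i).val = w ^ (∑ i ∈ s, f i).val := by
  classical
  induction s using Finset.induction_on with
  | empty => rw [Finset.prod_empty, Finset.sum_empty, ZMod.val_zero, pow_zero]
  | insert i s hi ih => rw [Finset.prod_insert hi, Finset.sum_insert hi, ih, pow_val_add hw]

/-- **the COMPLEMENT lemma**: an `H`-equivariant retraction of `Y` with kernel `N` -/
theorem retract [NeZero m] (D : Data m N Y κ) : ∃ r : Y →* Y, (∀ y, κ (r y) = κ y) ∧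
    (∀ y : Y, (y : H) ∈ N → r y = 1) ∧
    (∀ (h : H) (y : Y) (hy : h * y * h⁻¹ ∈ Y), (r ⟨h * y * h⁻¹, hy⟩ : H) = h * r y * h⁻¹) := by
  classical
  obtain ⟨w, hw, hc⟩ := D.cocycle
  obtain ⟨b0, -, -, -, -, -⟩ := D.pts
  letI : CommGroup Y := { (inferInstance : Group Y) with
    mul_comm := fun a b => Subtype.ext (D.comm a a.2 b b.2) }
  let z : B → B → Y := fun i j => ⟨w i j, (hw i j).1.1⟩
  have zκ : ∀ i j, κ (z i j) = Multiplicative.ofAdd (dif m i j) := fun i j => (hw i j).1.2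
  have zm : ∀ i j, z i j ^ m = 1 := fun i j => Subtype.ext (hw i j).2.2
  have zc : ∀ i j k, z i j * z j k = z i k := fun i j k => Subtype.ext (hc i j k)
  let r : Y →* Y :=
    { toFun := fun y => ∏ i, z i b0 ^ ((κ y).toAdd i).val
      map_one' := by
        refine Finset.prod_eq_one fun i _ => ?_
        rw [map_one, toAdd_one, Pi.zero_apply, ZMod.val_zero, pow_zero]
      map_mul' := fun x y => by
        rw [← Finset.prod_mul_distrib]
        refine Finset.prod_congr rfl fun i _ => ?_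
        rw [map_mul, toAdd_mul, Pi.add_apply, pow_val_add (zm i b0)] }
  have rdef : ∀ y, r y = ∏ i, z i b0 ^ ((κ y).toAdd i).val := fun y => rfl
  refine ⟨r, fun y => ?_, fun y hy => ?_, fun h y hy => ?_⟩
  · -- `κ (r y) = κ y`
    apply Multiplicative.toAdd.injective
    rw [rdef, map_prod]
    have h1 : ∀ i, κ (z i b0 ^ ((κ y).toAdd i).val) =
        Multiplicative.ofAdd (((κ y).toAdd i).val • dif m i b0) := fun i => by
      rw [map_pow, zκ, ofAdd_nsmul]
    simp only [h1]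
    rw [← ofAdd_sum, toAdd_ofAdd]
    funext k
    rw [Finset.sum_apply]
    have h2 : ∀ i, (((κ y).toAdd i).val • dif m i b0) k =
        (κ y).toAdd i * (Pi.single i (1 : ZMod m) : B → ZMod m) k -
          (κ y).toAdd i * (Pi.single b0 (1 : ZMod m) : B → ZMod m) k := fun i => by
      rw [Pi.smul_apply, nsmul_eq_mul, ZMod.natCast_zmod_val, dif, Pi.sub_apply, mul_sub]
    simp only [h2]
    rw [Finset.sum_sub_distrib, ← Finset.sum_mul, D.sum y, zero_mul, sub_zero]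
    simp only [Pi.single_apply, mul_ite, mul_one, mul_zero, Finset.sum_ite_eq, Finset.mem_univ,
      if_true]
  · rw [rdef, (D.ker y).2 hy]
    refine Finset.prod_eq_one fun i _ => ?_
    rw [toAdd_one, Pi.zero_apply, ZMod.val_zero, pow_zero]
  · have h1 : r ⟨h * y * h⁻¹, hy⟩ = ∏ i, z (h • i) b0 ^ ((κ y).toAdd i).val := by
      rw [rdef]
      rw [← Equiv.prod_comp (MulAction.toPerm h : Equiv.Perm B)
        (fun i => z i b0 ^ ((κ ⟨h * y * h⁻¹, hy⟩).toAdd i).val)]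
      refine Finset.prod_congr rfl fun i _ => ?_
      rw [MulAction.toPerm_apply, D.equiv h y hy i]
    have h2 : ∀ i, z (h • i) b0 = z (h • i) (h • b0) * z (h • b0) b0 := fun i => (zc _ _ _).symm
    have h3 : r ⟨h * y * h⁻¹, hy⟩ = ∏ i, z (h • i) (h • b0) ^ ((κ y).toAdd i).val := by
      rw [h1]
      have h4 : ∀ i, z (h • i) b0 ^ ((κ y).toAdd i).val =
          z (h • i) (h • b0) ^ ((κ y).toAdd i).val * z (h • b0) b0 ^ ((κ y).toAdd i).val := fun i => by
        rw [h2 i, mul_pow]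
      simp only [h4]
      rw [Finset.prod_mul_distrib, pow_val_sum (zm _ _), D.sum y, ZMod.val_zero, pow_zero, mul_one]
    rw [h3, rdef]
    have h5 : ∀ (s : Finset B) (f : B → ℕ),
        ((∏ i ∈ s, z (h • i) (h • b0) ^ f i : Y) : H) = h * ((∏ i ∈ s, z i b0 ^ f i : Y) : H) * h⁻¹ := by
      intro s f
      induction s using Finset.induction_on with
      | empty =>
        rw [Finset.prod_empty, Finset.prod_empty]
        show (1 : H) = h * 1 * h⁻¹
        group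
      | insert i s hi ih =>
        rw [Finset.prod_insert hi, Finset.prod_insert hi]
        show (z (h • i) (h • b0) ^ f i : H) * _ = h * ((z i b0 ^ f i : H) * _) * h⁻¹
        rw [ih]
        have h6 : ((z (h • i) (h • b0) : H)) ^ f i = h * (z i b0 : H) ^ f i * h⁻¹ := by
          rw [← conj_pow]
          exact congrArg (· ^ f i) ((hw i b0).2.1 h).symm
        rw [h6]
        group
    exact h5 _ _

/-- **every homomorphism on `N` extends to an `H`-invariant homomorphism on `Y`** -/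
theorem inv_char [NeZero m] (D : Data m N Y κ) {A : Type*} [CommGroup A] (φ : N →* A) :
    ∃ ψ : Y →* A, (∀ (n : H) (hn : n ∈ N), ψ ⟨n, D.NY hn⟩ = φ ⟨n, hn⟩) ∧
      ∀ (h : H) (y : Y) (hy : h * y * h⁻¹ ∈ Y), ψ ⟨h * y * h⁻¹, hy⟩ = ψ y := by
  obtain ⟨r, h1, h2, h3⟩ := D.retract
  have hN : ∀ y : Y, ((y : H) * (r y : H)⁻¹) ∈ N := fun y => by
    have h4 : κ (y * (r y)⁻¹) = 1 := by rw [map_mul, map_inv, h1, mul_inv_cancel]
    exact (D.ker _).1 h4
  refine ⟨MonoidHom.mk' (fun y => φ ⟨(y : H) * (r y : H)⁻¹, hN y⟩) fun x y => ?_, fun n hn => ?_,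
    fun h y hy => ?_⟩
  · rw [← map_mul]
    congr 1
    apply Subtype.ext
    show ((x : H) * y) * ((r (x * y) : Y) : H)⁻¹ = (x : H) * (r x : H)⁻¹ * (y * (r y : H)⁻¹)
    rw [map_mul]
    show ((x : H) * y) * ((r x : H) * (r y : H))⁻¹ = (x : H) * (r x : H)⁻¹ * (y * (r y : H)⁻¹)
    have h5 : (y : H) * (r x : H)⁻¹ = (r x : H)⁻¹ * y := D.comm _ y.2 _ (inv_mem (r x).2)
    have h6 : (r x : H) * (r y : H) = (r y : H) * r x := D.comm _ (r x).2 _ (r y).2
    rw [h6, mul_inv_rev]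
    calc (x : H) * y * ((r x : H)⁻¹ * (r y : H)⁻¹) = x * (y * (r x : H)⁻¹) * (r y : H)⁻¹ := by group
      _ = _ := by rw [h5]; group
  · show φ ⟨n * (r ⟨n, D.NY hn⟩ : H)⁻¹, _⟩ = _
    congr 1
    apply Subtype.ext
    show n * (r ⟨n, D.NY hn⟩ : H)⁻¹ = n
    rw [h2 _ hn]
    show n * (1 : H)⁻¹ = n
    rw [inv_one, mul_one]
  · show φ ⟨h * y * h⁻¹ * (r ⟨h * y * h⁻¹, hy⟩ : H)⁻¹, _⟩ = φ ⟨(y : H) * (r y : H)⁻¹, _⟩
    congr 1
    apply Subtype.ext
    show h * y * h⁻¹ * (r ⟨h * y * h⁻¹, hy⟩ : H)⁻¹ = (y : H) * (r y : H)⁻¹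
    rw [h3]
    have h4 := D.conj_cen (hN y) h
    calc h * y * h⁻¹ * (h * r y * h⁻¹)⁻¹ = h * (y * (r y : H)⁻¹) * h⁻¹ := by group
      _ = _ := h4

end Data

end Cfsg.Agent.H322.NX.Compl
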